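import Groth.Agent.RegLoc.Miracle
import Groth.Agent.SquarePres.FieldFlat
import Groth.Agent.Dim.LocalHom
import Mathlib.RingTheory.RegularLocalRing.Polynomial
import Mathlib.RingTheory.Ideal.KrullsHeightTheorem
import Mathlib.RingTheory.RingHom.Flat
import Mathlib.RingTheory.Nullstellensatz

/-!
# Systems of parameters at a closed point of a Cohen–Macaulay algebra, and exchange chains
-/

set_option autoImplicit false
set_option linter.style.haveILetI false

open MvPolynomial IsLocalRing

universe u

namespace Groth.Agent.CMChain84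

variable {k : Type u} [Field k] {A : Type u} [CommRing A] [Algebra k A] {n : ℕ}

/-- The ideal of the values `a i - c i`. -/
def shiftIdeal (a : Fin n → A) (c : Fin n → k) : Ideal A :=
  Ideal.span (Set.range fun i => a i - algebraMap k A (c i))

/-- `a` is, up to constants, a system of parameters at `M`. -/
def IsParam (M : Ideal A) (a : Fin n → A) : Prop :=
  ∃ c : Fin n → k, M ∈ (shiftIdeal a c).minimalPrimes

theorem sub_C_mem (c : Fin n → k) (p : MvPolynomial (Fin n) k) :
    p - C (eval c p) ∈ Ideal.span (Set.range fun i => (X i - C (c i) : MvPolynomial (Fin n) k)) := by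
  induction p using MvPolynomial.induction_on with
  | C r => simp
  | add p q hp hq => rw [map_add, map_add]; convert Ideal.add_mem _ hp hq using 1; ring
  | mul_X p i hp =>
    rw [map_mul, eval_X, map_mul]
    convert Ideal.add_mem _ (Ideal.mul_mem_right (C (c i)) _ hp)
      (Ideal.mul_mem_left _ p (Ideal.subset_span (Set.mem_range_self i))) using 1
    ring

theorem eq_span_of_le (c : Fin n → k) {P : Ideal (MvPolynomial (Fin n) k)} (hP : P ≠ ⊤)
    (h : Ideal.span (Set.range fun i => (X i - C (c i) : MvPolynomial (Fin n) k)) ≤ P) :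
    P = Ideal.span (Set.range fun i => (X i - C (c i) : MvPolynomial (Fin n) k)) := by
  refine le_antisymm (fun p hp => ?_) h
  have hc : C (eval c p) ∈ P := by simpa using P.sub_mem hp (h (sub_C_mem c p))
  have h0 : eval c p = 0 := by
    by_contra h'
    exact hP (Ideal.eq_top_of_isUnit_mem _ hc ((Ne.isUnit h').map C))
  simpa [h0] using sub_C_mem c p

theorem comap_eq (a : Fin n → A) (c : Fin n → k) (M : Ideal A) [M.IsPrime] (h : shiftIdeal a c ≤ M) :
    M.comap (aeval a).toRingHom = Ideal.span (Set.range fun i => (X i - C (c i) : MvPolynomial (Fin n) k)) := by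
  refine eq_span_of_le c (Ideal.IsPrime.ne_top inferInstance) (Ideal.span_le.2 ?_)
  rintro _ ⟨i, rfl⟩
  show aeval a (X i - C (c i)) ∈ M
  rw [map_sub, aeval_X, aeval_C]
  exact h (Ideal.subset_span ⟨i, rfl⟩)

theorem map_span (a : Fin n → A) (c : Fin n → k) :
    (Ideal.span (Set.range fun i => (X i - C (c i) : MvPolynomial (Fin n) k))).map (aeval a).toRingHom =
      shiftIdeal a c := by
  rw [Ideal.map_span, ← Set.range_comp]
  congr 2
  funext i
  show aeval a (X i - C (c i)) = _
  rw [map_sub, aeval_X, aeval_C]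

/-- A maximal ideal minimal over the parameters is isolated in its fibre. -/
theorem exists_isolate [IsNoetherianRing A] (a : Fin n → A) (c : Fin n → k) (M : Ideal A) [M.IsMaximal]
    (h : M ∈ (shiftIdeal a c).minimalPrimes) :
    ∃ f ∉ M, ∀ q : Ideal A, q.IsPrime → shiftIdeal a c ≤ q → f ∉ q → q = M := by
  classical
  have hfin := (shiftIdeal a c).finite_minimalPrimes_of_isNoetherianRing
  let s := hfin.toFinset.erase M
  have hnot : ¬ ∏ p ∈ s, p ≤ M := fun hle => by
    obtain ⟨p, hp, hpM⟩ := (Ideal.IsPrime.prod_le inferInstance).1 hle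
    rw [Finset.mem_erase, Set.Finite.mem_toFinset] at hp
    exact hp.1 (le_antisymm hpM (h.2 hp.2.1 hpM))
  obtain ⟨f, hf, hfM⟩ := SetLike.not_le_iff_exists.1 hnot
  refine ⟨f, hfM, fun q hq hJ hfq => ?_⟩
  obtain ⟨p, hp, hpq⟩ := Ideal.exists_minimalPrimes_le hJ
  by_cases hpM : p = M
  · exact ((‹M.IsMaximal›).eq_of_le hq.ne_top (hpM ▸ hpq)).symm
  · refine absurd (hpq (Ideal.le_of_dvd (Finset.dvd_prod_of_mem _ ?_) hf)) hfq
    rw [Finset.mem_erase, Set.Finite.mem_toFinset]
    exact ⟨hpM, hp⟩

theorem height_eq_of_flat [IsNoetherianRing A] (a : Fin n → A) (c : Fin n → k) (M : Ideal A)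
    [M.IsMaximal] (h : M ∈ (shiftIdeal a c).minimalPrimes)
    (hflat : @RingHom.Flat (Localization.AtPrime (M.comap (aeval a : MvPolynomial (Fin n) k →ₐ[k] A).toRingHom)) (Localization.AtPrime M) _ _
      (Localization.localRingHom (M.comap (aeval a : MvPolynomial (Fin n) k →ₐ[k] A).toRingHom) M (aeval a).toRingHom rfl)) :
    M.height = n := by
  let φ := (aeval a : MvPolynomial (Fin n) k →ₐ[k] A).toRingHom
  let R := Localization.AtPrime (M.comap φ)
  let S := Localization.AtPrime M
  let ψ : R →+* S := Localization.localRingHom (M.comap φ) M φ rfl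
  letI : Algebra R S := ψ.toAlgebra
  haveI : IsLocalHom (algebraMap R S) := Localization.isLocalHom_localRingHom (M.comap φ) M φ rfl
  haveI : Module.Flat R S := hflat
  have hQm : (M.comap φ).IsMaximal := by
    obtain ⟨P, hP, hle⟩ := Ideal.exists_le_maximal (M.comap φ) (Ideal.IsPrime.ne_top inferInstance)
    have e := comap_eq a c M h.1.2
    rwa [e, ← eq_span_of_le c hP.ne_top (e.symm.le.trans hle)]
  have hmap : (maximalIdeal R).map (algebraMap R S) = (shiftIdeal a c).map (algebraMap A S) := by
    have e2 : (algebraMap R S).comp (algebraMap (MvPolynomial (Fin n) k) R) = (algebraMap A S).comp φ :=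
      RingHom.ext fun x => Localization.localRingHom_to_map (M.comap φ) M φ rfl x
    rw [← IsLocalization.AtPrime.map_eq_maximalIdeal (M.comap φ) R, Ideal.map_map, e2, ← Ideal.map_map]
    exact congrArg _ ((congrArg _ (comap_eq a c M h.1.2)).trans (map_span a c))
  have h0 := Dim.ringKrullDim_eq_add_fibre R S
  haveI : Ring.KrullDimLE 0 (S ⧸ (maximalIdeal R).map (algebraMap R S)) := by
    rw [hmap]
    haveI := IsLocalRing.quotient_artinian_of_mem_minimalPrimes_of_isLocalRing
      ((shiftIdeal a c).map (algebraMap A S)) (by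
      rw [← IsLocalization.AtPrime.map_eq_maximalIdeal M S,
        IsLocalization.minimalPrimes_map M.primeCompl S (shiftIdeal a c), Set.mem_preimage,
        IsLocalization.AtPrime.map_eq_maximalIdeal M S, IsLocalization.AtPrime.comap_maximalIdeal S M]
      exact h)
    infer_instance
  haveI : Nontrivial (S ⧸ (maximalIdeal R).map (algebraMap R S)) :=
    Ideal.Quotient.nontrivial_iff.2 (ne_top_of_le_ne_top (maximalIdeal.isMaximal S).ne_top
      (((local_hom_TFAE (algebraMap R S)).out 0 2).mp (by infer_instance)))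
  rw [(ringKrullDimZero_iff_ringKrullDim_eq_zero (R := S ⧸ (maximalIdeal R).map (algebraMap R S))).1 inferInstance, add_zero,
    SquarePres.ringKrullDim_localization_maximal, IsLocalization.AtPrime.ringKrullDim_eq_height M S] at h0
  exact WithBot.coe_inj.1 h0

theorem flat_of_isParam [IsNoetherianRing A] (a : Fin n → A) (c : Fin n → k) (M : Ideal A) [M.IsMaximal]
    (h : M ∈ (shiftIdeal a c).minimalPrimes) (hM : M.height = n)
    [LocCoh.IsCohenMacaulayLocalRing (Localization.AtPrime M)] :
    @RingHom.Flat (Localization.AtPrime (M.comap (aeval a : MvPolynomial (Fin n) k →ₐ[k] A).toRingHom)) (Localization.AtPrime M) _ _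
      (Localization.localRingHom (M.comap (aeval a : MvPolynomial (Fin n) k →ₐ[k] A).toRingHom) M (aeval a).toRingHom rfl) := by
  let φ := (aeval a : MvPolynomial (Fin n) k →ₐ[k] A).toRingHom
  let R := Localization.AtPrime (M.comap φ)
  let S := Localization.AtPrime M
  let ψ : R →+* S := Localization.localRingHom (M.comap φ) M φ rfl
  letI : Algebra R S := ψ.toAlgebra
  haveI : IsLocalHom (algebraMap R S) := Localization.isLocalHom_localRingHom (M.comap φ) M φ rfl
  have hQm : (M.comap φ).IsMaximal := by
    obtain ⟨P, hP, hle⟩ := Ideal.exists_le_maximal (M.comap φ) (Ideal.IsPrime.ne_top inferInstance)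
    have e := comap_eq a c M h.1.2
    rwa [e, ← eq_span_of_le c hP.ne_top (e.symm.le.trans hle)]
  haveI : IsRegularLocalRing R := IsRegularRing.isRegularLocalRing_localization (M.comap φ)
  have hmap : (maximalIdeal R).map (algebraMap R S) = (shiftIdeal a c).map (algebraMap A S) := by
    have e2 : (algebraMap R S).comp (algebraMap (MvPolynomial (Fin n) k) R) = (algebraMap A S).comp φ :=
      RingHom.ext fun x => Localization.localRingHom_to_map (M.comap φ) M φ rfl x
    rw [← IsLocalization.AtPrime.map_eq_maximalIdeal (M.comap φ) R, Ideal.map_map, e2, ← Ideal.map_map]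
    exact congrArg _ ((congrArg _ (comap_eq a c M h.1.2)).trans (map_span a c))
  haveI : Ring.KrullDimLE 0 (S ⧸ (maximalIdeal R).map (algebraMap R S)) := by
    rw [hmap]
    haveI := IsLocalRing.quotient_artinian_of_mem_minimalPrimes_of_isLocalRing
      ((shiftIdeal a c).map (algebraMap A S)) (by
      rw [← IsLocalization.AtPrime.map_eq_maximalIdeal M S,
        IsLocalization.minimalPrimes_map M.primeCompl S (shiftIdeal a c), Set.mem_preimage,
        IsLocalization.AtPrime.map_eq_maximalIdeal M S, IsLocalization.AtPrime.comap_maximalIdeal S M]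
      exact h)
    infer_instance
  haveI : Nontrivial (S ⧸ (maximalIdeal R).map (algebraMap R S)) :=
    Ideal.Quotient.nontrivial_iff.2 (ne_top_of_le_ne_top (maximalIdeal.isMaximal S).ne_top
      (((local_hom_TFAE (algebraMap R S)).out 0 2).mp (by infer_instance)))
  have hdim : ringKrullDim S = ringKrullDim R + ringKrullDim (S ⧸ (maximalIdeal R).map (algebraMap R S)) := by
    rw [(ringKrullDimZero_iff_ringKrullDim_eq_zero (R := S ⧸ (maximalIdeal R).map (algebraMap R S))).1 inferInstance, add_zero,
      SquarePres.ringKrullDim_localization_maximal, IsLocalization.AtPrime.ringKrullDim_eq_height M S, hM]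
    rfl
  exact RegLoc.Miracle.flat_of_ringKrullDim_eq_add hdim

/-- The exchange step. -/
theorem exists_exchange [IsNoetherianRing A] (M : Ideal A) [M.IsMaximal] (hM : M.height = n)
    (a b : Fin n → A) (i : Fin n) (ha : IsParam (k := k) M a) (hb : IsParam (k := k) M b) :
    ∃ z, IsParam (k := k) M (Function.update a i z) ∧ IsParam (k := k) M (Function.update b i z) := by
  classical
  obtain ⟨ca, hca⟩ := ha
  obtain ⟨cb, hcb⟩ := hb
  let g (v : Fin n → A) (c : Fin n → k) : Fin n → A := fun j => v j - algebraMap k A (c j)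
  let I (v : Fin n → A) (c : Fin n → k) : Ideal A := Ideal.span (g v c '' {j | j ≠ i})
  have hsplit : ∀ v c, shiftIdeal v c = I v c ⊔ Ideal.span {g v c i} := by
    intro v c
    rw [shiftIdeal, ← Ideal.span_union, ← Set.image_singleton, ← Set.image_union, ← Set.image_univ]
    congr 2
    ext j
    simpa using em (j = i)
  have hnot : ∀ v c, M ∈ (shiftIdeal v c).minimalPrimes → M ∉ (I v c).minimalPrimes := by
    intro v c _ hmin
    have h1 := Ideal.height_le_card_of_mem_minimalPrimes_span_finset
      (s := (Finset.univ.erase i).image (g v c)) (p := M) (by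
        rw [Finset.coe_image, Finset.coe_erase, Finset.coe_univ]
        convert hmin using 3
        congr 1
        ext j; simp)
    rw [hM] at h1
    have h2 := (Finset.card_image_le (s := Finset.univ.erase i) (f := g v c)).trans_eq
      (Finset.card_erase_of_mem (Finset.mem_univ i))
    have h3 : n ≤ ((Finset.univ.erase i).image (g v c)).card := by exact_mod_cast h1
    simp only [Finset.card_univ, Fintype.card_fin] at h2
    have := i.isLt
    omega
  let T : Set (Ideal A) := (I a ca).minimalPrimes ∪ (I b cb).minimalPrimes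
  have hT : T.Finite := (I a ca).finite_minimalPrimes_of_isNoetherianRing.union
    (I b cb).finite_minimalPrimes_of_isNoetherianRing
  obtain ⟨z, hzM, hz⟩ : ∃ z ∈ M, ∀ p ∈ T, z ∉ p := by
    by_contra! hc
    have hsub : (M : Set A) ⊆ ⋃ p ∈ (↑hT.toFinset : Set (Ideal A)), (p : Set A) := fun z hz => by
      obtain ⟨p, hp, hzp⟩ := hc z hz
      simp only [Set.Finite.coe_toFinset, Set.mem_iUnion, SetLike.mem_coe, exists_prop]
      exact ⟨p, hp, hzp⟩
    obtain ⟨p, hp, hMp⟩ := (Ideal.subset_union_prime ⊤ ⊤ (fun p hp _ _ => by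
      rw [Set.Finite.mem_toFinset] at hp
      rcases hp with hp | hp <;> exact hp.1.1)).1 hsub
    rw [Set.Finite.mem_toFinset] at hp
    have hpp : p.IsPrime := by rcases hp with hp | hp <;> exact hp.1.1
    have e : M = p := ‹M.IsMaximal›.eq_of_le hpp.ne_top hMp
    rcases hp with hp | hp
    · exact hnot a ca hca (e ▸ hp)
    · exact hnot b cb hcb (e ▸ hp)
  have step : ∀ v c, M ∈ (shiftIdeal v c).minimalPrimes → (∀ p ∈ (I v c).minimalPrimes, z ∉ p) →
      IsParam (k := k) M (Function.update v i z) := by
    intro v c hv hzp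
    refine ⟨Function.update c i 0, ?_⟩
    have hI : I v c ≤ M := (le_sup_left.trans (hsplit v c).ge).trans hv.1.2
    have e : shiftIdeal (Function.update v i z) (Function.update c i 0) = I v c ⊔ Ideal.span {z} := by
      rw [hsplit]
      congr 1
      · refine congrArg Ideal.span (Set.image_congr fun j (hj : j ≠ i) => ?_)
        simp [g, Function.update_of_ne hj]
      · simp [g]
    rw [e]
    refine ⟨⟨inferInstance, sup_le hI ((Ideal.span_singleton_le_iff_mem _).2 hzM)⟩, ?_⟩
    rintro q ⟨hq, hqI⟩ hqM
    obtain ⟨p, hp, hpq⟩ := Ideal.exists_minimalPrimes_le (le_sup_left.trans hqI)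
    by_contra hne
    have hqlt : q < M := lt_of_le_not_ge hqM hne
    have hzq : z ∈ q := hqI (Ideal.mem_sup_right (Ideal.mem_span_singleton_self z))
    have hplt : p < q := lt_of_le_of_ne hpq fun e' => hzp p hp (e' ▸ hzq)
    -- the image of `M` in `A / I` has height at most one
    let π := Ideal.Quotient.mk (I v c)
    haveI := hp.1.1
    haveI : (M.map π).IsPrime := Ideal.map_isPrime_of_surjective Ideal.Quotient.mk_surjective
      (by rw [Ideal.mk_ker]; exact hI)
    haveI : (q.map π).IsPrime := Ideal.map_isPrime_of_surjective Ideal.Quotient.mk_surjective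
      (by rw [Ideal.mk_ker]; exact le_sup_left.trans hqI)
    haveI : (p.map π).IsPrime := Ideal.map_isPrime_of_surjective Ideal.Quotient.mk_surjective
      (by rw [Ideal.mk_ker]; exact hp.1.2)
    have cm : ∀ r : Ideal A, I v c ≤ r → (r.map π).comap π = r := fun r hr => by
      rw [Ideal.comap_map_of_surjective _ Ideal.Quotient.mk_surjective, ← RingHom.ker_eq_comap_bot,
        Ideal.mk_ker, sup_of_le_left hr]
    have h1 : (M.map π).height ≤ 1 := by
      refine Ideal.height_le_one_of_isPrincipal_of_mem_minimalPrimes (Ideal.span {π (g v c i)}) _ ⟨⟨inferInstance, ?_⟩, ?_⟩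
      · rw [Ideal.span_singleton_le_iff_mem]
        exact Ideal.mem_map_of_mem _ (hv.1.2 (Ideal.subset_span ⟨i, rfl⟩))
      · rintro r ⟨hr, hrg⟩ hrM
        have : M ≤ r.comap π := hv.2 ⟨hr.comap π, by
          rw [hsplit]
          refine sup_le (fun x hx => ?_) ((Ideal.span_singleton_le_iff_mem _).2 (hrg (Ideal.mem_span_singleton_self _)))
          show π x ∈ r
          rw [Ideal.Quotient.eq_zero_iff_mem.2 hx]; exact r.zero_mem⟩
          ((Ideal.comap_mono hrM).trans_eq (cm M hI))
        exact (Ideal.map_mono this).trans Ideal.map_comap_le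
    have hpq' : p.map π < q.map π := lt_of_le_of_ne (Ideal.map_mono hplt.le) fun e' =>
      hplt.ne (by rw [← cm p hp.1.2, e', cm q (le_sup_left.trans hqI)])
    have hqM' : q.map π < M.map π := lt_of_le_of_ne (Ideal.map_mono hqlt.le) fun e' =>
      hqlt.ne (by rw [← cm q (le_sup_left.trans hqI), e', cm M hI])
    have h2 := Ideal.height_strict_mono_of_isPrime hpq'
    have h3 := Ideal.height_strict_mono_of_isPrime hqM'
    have h4 : (q.map π).height < 1 := h3.trans_le h1
    rw [Order.lt_one_iff_nonpos] at h4
    exact not_lt_bot (h2.trans_le h4)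
  exact ⟨z, step a ca hca fun p hp => hz p (Or.inl hp), step b cb hcb fun p hp => hz p (Or.inr hp)⟩

/-- The first `j` coordinates from `z`. -/
def mix (a z : Fin n → A) (j : ℕ) : Fin n → A := fun l => if (l : ℕ) < j then z l else a l

theorem mix_update (a z : Fin n → A) (y : A) (j : ℕ) (hj : j < n) :
    mix a (Function.update z ⟨j, hj⟩ y) (j + 1) = Function.update (mix a z j) ⟨j, hj⟩ y := by
  funext l
  rcases eq_or_ne l ⟨j, hj⟩ with rfl | hl
  · simp [mix]
  · have : (l : ℕ) ≠ j := fun e => hl (Fin.ext e)
    simp only [mix, Function.update_of_ne hl]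
    by_cases h : (l : ℕ) < j
    · rw [if_pos h, if_pos (by omega)]
    · rw [if_neg h, if_neg (by omega)]

theorem exists_chain [IsNoetherianRing A] (M : Ideal A) [M.IsMaximal] (hM : M.height = n)
    (a b : Fin n → A) (ha : IsParam (k := k) M a) (hb : IsParam (k := k) M b) :
    ∃ z : Fin n → A, ∀ j ≤ n, IsParam (k := k) M (mix a z j) ∧ IsParam (k := k) M (mix b z j) := by
  suffices ∀ j ≤ n, ∃ z : Fin n → A, ∀ i ≤ j, IsParam (k := k) M (mix a z i) ∧ IsParam (k := k) M (mix b z i) from
    this n le_rfl
  intro j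
  induction j with
  | zero =>
    intro _
    refine ⟨a, fun i hi => ?_⟩
    rw [Nat.le_zero.1 hi]
    simpa [mix] using ⟨ha, hb⟩
  | succ j ih =>
    intro hj
    obtain ⟨z, hz⟩ := ih (by omega)
    obtain ⟨hza, hzb⟩ := hz j le_rfl
    obtain ⟨y, hya, hyb⟩ := exists_exchange M hM _ _ ⟨j, hj⟩ hza hzb
    refine ⟨Function.update z ⟨j, hj⟩ y, fun i hi => ?_⟩
    rcases Nat.lt_or_eq_of_le hi with hi' | rfl
    · have e : ∀ v : Fin n → A, mix v (Function.update z ⟨j, hj⟩ y) i = mix v z i := fun v => by
        funext l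
        simp only [mix]
        split
        · rw [Function.update_of_ne (fun e => by subst e; simp at *; omega)]
        · rfl
      rw [e, e]
      exact hz i (by omega)
    · rw [mix_update _ _ _ _ hj, mix_update _ _ _ _ hj]
      exact ⟨hya, hyb⟩

end Groth.Agent.CMChain84
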